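import Groth.Agent.Lib.HypEq17.Main
import Groth.Agent.Lib.Twist.GlobalProjSpace
import Mathlib.FieldTheory.IntermediateField.Adjoin.Basic
import Mathlib.FieldTheory.PurelyInseparable.Basic

/-!
# Presentations of the affine chart and of the function field of a double cover
-/

set_option linter.style.haveILetI false
set_option autoImplicit false

universe u

open CategoryTheory TopologicalSpace Opposite CategoryTheory.Limits AlgebraicGeometry

namespace Groth.Agent.HypEq17

open Groth.Agent.M1 Groth.Agent.P1Split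

variable {k : Type u} [Field k]

theorem coordHom_C (a : Fin 2) (c : k) :
    coordHom k a (Polynomial.C c) = ores (le_top : U k a ≤ ⊤) (Twist.constFun 1 k c) :=
  ext_valHom k fun x hx => by
    rw [valHom_coordHom_C, valHom_ores]
    refine (?_ : _ = _).trans (Twist.valO_constFun 1 k c x).symm
    exact (Localization.mk_one_eq_algebraMap _).symm

variable {X : Scheme.{u}} (f : X ⟶ CohB1.ProjSpace 1 k)

theorem chartHom_C (sX : X ⟶ Spec (CommRingCat.of k)) (hf : f ≫ CohB1.ProjSpace.toSpec 1 k = sX) (a : Fin 2) (c : k) :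
    chartHom f a (Polynomial.C c) = X.presheaf.map (homOfLE (le_top : f ⁻¹ᵁ U k a ≤ ⊤)).op
      (sX.appTop ((Scheme.ΓSpecIso (CommRingCat.of k)).inv c)) := by
  subst hf
  refine (congrArg (fun t => (f.app (U k a)).hom t) (coordHom_C a c)).trans ?_
  rw [Scheme.Hom.comp_appTop]
  exact ConcreteCategory.congr_hom (f.naturality (homOfLE (le_top : U k a ≤ ⊤)).op) (Twist.constFun 1 k c)

/-- The defining equation of the chart. -/
noncomputable abbrev eqn (p q : Polynomial k) : MvPolynomial (Fin 2) k :=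
  MvPolynomial.X 1 ^ 2 + Polynomial.aeval (MvPolynomial.X 0) q * MvPolynomial.X 1 - Polynomial.aeval (MvPolynomial.X 0) p

/-- Every polynomial in two variables is linear in the second one modulo the equation. -/
theorem exists_reduce (p q : Polynomial k) (F : MvPolynomial (Fin 2) k) :
    ∃ a b : Polynomial k, F - (Polynomial.aeval (MvPolynomial.X 0) a +
      Polynomial.aeval (MvPolynomial.X 0) b * MvPolynomial.X 1) ∈ Ideal.span {eqn p q} := by
  induction F using MvPolynomial.induction_on with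
  | C c => exact ⟨Polynomial.C c, 0, by simp [MvPolynomial.algebraMap_eq]⟩
  | add F G hF hG =>
    obtain ⟨a, b, h⟩ := hF
    obtain ⟨a', b', h'⟩ := hG
    refine ⟨a + a', b + b', ?_⟩
    convert Ideal.add_mem _ h h' using 1
    simp only [map_add]
    ring
  | mul_X F i hF =>
    obtain ⟨a, b, h⟩ := hF
    rcases Fin.exists_fin_two.1 ⟨i, rfl⟩ with hi | hi <;> subst hi
    · refine ⟨a * Polynomial.X, b * Polynomial.X, ?_⟩
      convert Ideal.mul_mem_right (MvPolynomial.X 0) _ h using 1
      simp only [map_mul, Polynomial.aeval_X]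
      ring
    · refine ⟨b * p, a - b * q, ?_⟩
      convert Ideal.add_mem _ (Ideal.mul_mem_right (MvPolynomial.X 1) _ h)
        (Ideal.mul_mem_left _ (Polynomial.aeval (MvPolynomial.X 0) b) (Ideal.mem_span_singleton_self (eqn p q))) using 1
      simp only [map_mul, map_sub, eqn]
      ring

/-- The affine chart as a plane curve. -/
theorem exists_chart_iso (sX : X ⟶ Spec (CommRingCat.of k)) [IsAffineHom f]
    (hf : f ≫ CohB1.ProjSpace.toSpec 1 k = sX) {y : Γ(X, f ⁻¹ᵁ U k 0)} {P Q : Polynomial k}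
    (hy : Function.Bijective fun c : Fin 2 → Polynomial k => chartHom f 0 (c 0) + chartHom f 0 (c 1) * y)
    (heq : y ^ 2 + chartHom f 0 Q * y = chartHom f 0 P) :
    ∃ e : (↑(f ⁻¹ᵁ U k 0) : Scheme.{u}) ≅ Spec (CommRingCat.of (MvPolynomial (Fin 2) k ⧸ Ideal.span {eqn P Q})),
      e.hom ≫ Spec.map (CommRingCat.ofHom ((Ideal.Quotient.mk (Ideal.span {eqn P Q})).comp
        (MvPolynomial.C : k →+* MvPolynomial (Fin 2) k))) = (f ⁻¹ᵁ U k 0).ι ≫ sX := by
  let ψ₀ : MvPolynomial (Fin 2) k →+* Γ(X, f ⁻¹ᵁ U k 0) :=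
    MvPolynomial.eval₂Hom ((chartHom f 0).comp Polynomial.C) ![chartHom f 0 Polynomial.X, y]
  have hψ : ∀ r : Polynomial k, ψ₀ (Polynomial.aeval (MvPolynomial.X 0) r) = chartHom f 0 r := fun r => by
    have h : ψ₀.comp (Polynomial.aeval (R := k) (MvPolynomial.X (0 : Fin 2))).toRingHom = chartHom f 0 :=
      Polynomial.ringHom_ext (fun c => by simp [ψ₀, MvPolynomial.algebraMap_eq]) (by simp [ψ₀])
    exact DFunLike.congr_fun h r
  have hψ1 : ψ₀ (MvPolynomial.X 1) = y := by simp [ψ₀]
  have hker : ∀ F ∈ Ideal.span {eqn P Q}, ψ₀ F = 0 := fun F hF => by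
    obtain ⟨G, rfl⟩ := Ideal.mem_span_singleton'.1 hF
    simp only [eqn, map_mul, map_sub, map_add, map_pow, hψ, hψ1, heq, sub_self, mul_zero]
  let ψ := Ideal.Quotient.lift _ ψ₀ hker
  have hb : Function.Bijective ψ := by
    constructor
    · refine (injective_iff_map_eq_zero ψ).2 fun z hz => ?_
      obtain ⟨F, rfl⟩ := Ideal.Quotient.mk_surjective z
      obtain ⟨a, b, h⟩ := exists_reduce P Q F
      rw [Ideal.Quotient.eq_zero_iff_mem]
      have h0 : (![a, b] : Fin 2 → Polynomial k) = fun _ => 0 := hy.1 (by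
        simp only [Matrix.cons_val_zero, Matrix.cons_val_one, map_zero, zero_mul, add_zero]
        have h2 := hker _ h
        simp only [map_sub, map_add, map_mul, hψ, hψ1, sub_eq_zero] at h2
        rw [← h2]
        exact hz)
      have ha : a = 0 := congrFun h0 0
      have hb : b = 0 := congrFun h0 1
      simpa [ha, hb] using h
    · intro z
      obtain ⟨c, rfl⟩ := hy.2 z
      refine ⟨Ideal.Quotient.mk _ (Polynomial.aeval (MvPolynomial.X 0) (c 0) +
        Polynomial.aeval (MvPolynomial.X 0) (c 1) * MvPolynomial.X 1), ?_⟩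
      simp only [ψ, Ideal.Quotient.lift_mk, map_add, map_mul, hψ, hψ1]
  have hV : IsAffineOpen (f ⁻¹ᵁ U k 0) :=
    @IsAffineOpen.preimage X (CohB1.ProjSpace 1 k) (U k 0) (isAffineOpen_U k 0) f inferInstance
  haveI : IsIso (CommRingCat.ofHom ψ) := (ConcreteCategory.isIso_iff_bijective _).2 hb
  refine ⟨hV.isoSpec ≪≫ asIso (Spec.map (CommRingCat.ofHom ψ)), ?_⟩
  have hc : CommRingCat.ofHom ((Ideal.Quotient.mk (Ideal.span {eqn P Q})).comp
      (MvPolynomial.C : k →+* MvPolynomial (Fin 2) k)) ≫ CommRingCat.ofHom ψ =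
      CommRingCat.ofHom ((chartHom f 0).comp Polynomial.C) := by
    ext c
    show ψ (Ideal.Quotient.mk _ (MvPolynomial.C c)) = chartHom f 0 (Polynomial.C c)
    simp [ψ, ψ₀]
  simp only [Iso.trans_hom, asIso_hom, Category.assoc]
  rw [← Spec.map_comp, hc]
  refine ext_of_isAffine ?_
  rw [Scheme.Hom.comp_appTop, Scheme.Hom.comp_appTop, IsAffineOpen.isoSpec_hom_appTop, Scheme.Opens.ι_appTop,
    ← Category.assoc, Scheme.ΓSpecIso_naturality]
  ext z
  obtain ⟨c, rfl⟩ : ∃ c, (Scheme.ΓSpecIso (CommRingCat.of k)).inv c = z := ⟨(Scheme.ΓSpecIso _).hom z, by simp⟩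
  simp only [CommRingCat.comp_apply, Iso.inv_hom_id_apply]
  show (f ⁻¹ᵁ U k 0).topIso.inv (chartHom f 0 (Polynomial.C c)) = _
  rw [chartHom_C f sX hf]
  exact (ConcreteCategory.comp_apply _ _ _).symm.trans
    (ConcreteCategory.congr_hom (X.presheaf.map_comp _ _).symm _)

end Groth.Agent.HypEq17
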