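import Groth.Agent.Lib.P1Split17.Matrix

/-!
# Rings glued from two copies of a free rank two algebra over the affine line
-/

set_option autoImplicit false
universe u

open Polynomial
open scoped LaurentPolynomial

namespace Groth.Agent.HypEq17

open Groth.Agent.P1Split

variable {k : Type u} [Field k]

/-- Reversal: a polynomial of degree at most `j`, seen from infinity. -/
theorem exists_neg_eq (p : k[X]) (j : ℕ) (hp : p.natDegree ≤ j) :
    ∃ q : k[X], q.natDegree ≤ j ∧ negHom k q = posHom k p * LaurentPolynomial.T (-(j : ℤ)) := by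
  refine ⟨∑ i ∈ Finset.range (j + 1), Polynomial.C (p.coeff i) * X ^ (j - i), ?_, ?_⟩
  · exact natDegree_sum_le_of_forall_le _ _ fun i _ => (natDegree_C_mul_X_pow_le _ _).trans (by omega)
  · conv_rhs => rw [p.as_sum_range' (j + 1) (by omega)]
    rw [map_sum, map_sum, Finset.sum_mul]
    refine Finset.sum_congr rfl fun i hi => ?_
    have hij : i ≤ j := Nat.lt_succ_iff.1 (Finset.mem_range.1 hi)
    rw [map_mul, negHom_C, negHom_X_pow, ← C_mul_X_pow_eq_monomial, map_mul, posHom_C, map_pow,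
      show posHom k (X : k[X]) = LaurentPolynomial.T 1 from toLaurent_X, LaurentPolynomial.T_pow,
      mul_assoc, ← LaurentPolynomial.T_add]
    congr 2
    omega

theorem invert_negHom (p : k[X]) : LaurentPolynomial.invert (negHom k p) = posHom k p :=
  LaurentPolynomial.involutive_invert _

theorem invert_posHom (p : k[X]) : LaurentPolynomial.invert (posHom k p) = negHom k p := rfl

theorem exists_pos_eq (q : k[X]) : ∃ q' : k[X], q'.natDegree ≤ q.natDegree ∧
    posHom k q' = negHom k q * LaurentPolynomial.T (q.natDegree : ℤ) := by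
  obtain ⟨q', h1, h2⟩ := exists_neg_eq q q.natDegree le_rfl
  refine ⟨q', h1, ?_⟩
  rw [← invert_negHom, h2, map_mul, invert_posHom, LaurentPolynomial.invert_T, neg_neg]

/-- A polynomial in `T` which is `T ^ (-j)` times a polynomial in `T⁻¹`, shifted. -/
theorem degree_le_of_eq {p q : k[X]} {j : ℕ} (h : posHom k p * LaurentPolynomial.T (-(j : ℤ)) = negHom k q) :
    p.natDegree ≤ j := by
  obtain ⟨q', hq, he⟩ := exists_pos_eq q
  rcases eq_or_ne p 0 with rfl | hp
  · simp
  have h1 : p * X ^ q.natDegree = q' * X ^ j := by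
    refine toLaurent_injective ?_
    show posHom k _ = posHom k _
    rw [map_mul, map_mul, map_pow, map_pow, show posHom k (X : k[X]) = LaurentPolynomial.T 1 from toLaurent_X,
      LaurentPolynomial.T_pow, LaurentPolynomial.T_pow, he, ← h, mul_assoc, mul_assoc, ← LaurentPolynomial.T_add,
      ← LaurentPolynomial.T_add]
    congr 2
    omega
  have hd := congrArg natDegree h1
  rw [natDegree_mul hp (pow_ne_zero _ X_ne_zero), natDegree_pow, natDegree_X] at hd
  have := (natDegree_mul_le (p := q') (q := X ^ j))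
  rw [natDegree_pow, natDegree_X] at this
  omega

theorem eq_zero_of_eq {p q : k[X]} {j : ℕ} (hj : 0 < j)
    (h : posHom k p = negHom k q * LaurentPolynomial.T (-(j : ℤ))) : p = 0 ∧ q = 0 := by
  obtain ⟨q', hq, he⟩ := exists_pos_eq q
  have h1 : p * X ^ (q.natDegree + j) = q' := by
    refine toLaurent_injective ?_
    show posHom k _ = posHom k _
    rw [map_mul, map_pow, show posHom k (X : k[X]) = LaurentPolynomial.T 1 from toLaurent_X,
      LaurentPolynomial.T_pow, he, h, mul_assoc, ← LaurentPolynomial.T_add]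
    congr 2
    push_cast
    omega
  have hp : p = 0 := by
    by_contra hp
    have hd := congrArg natDegree h1
    rw [natDegree_mul hp (pow_ne_zero _ X_ne_zero), natDegree_pow, natDegree_X] at hd
    omega
  refine ⟨hp, negHom_injective ?_⟩
  rw [hp, map_zero] at h
  rw [map_zero]
  exact (mul_eq_zero.1 h.symm).resolve_right fun h0 => by
    simpa using (LaurentPolynomial.isUnit_T (-(j : ℤ)) (R := k)).ne_zero h0

theorem eq_C_of_eq {p q : k[X]} (h : posHom k p = negHom k q) : ∃ c : k, p = Polynomial.C c ∧ q = Polynomial.C c := by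
  have hp := degree_le_of_eq (p := p) (q := q) (j := 0) (by simpa using h)
  refine ⟨p.coeff 0, eq_C_of_natDegree_le_zero hp, negHom_injective ?_⟩
  rw [← h, negHom_C, eq_C_of_natDegree_le_zero hp, posHom_C]
  simp

theorem bijective_change {A : Type*} [CommRing A] (α : k[X] →+* A) (e : Fin 2 → A) {c : k} (hc0 : c ≠ 0)
    (h : α (Polynomial.C c) * e 0 = 1)
    (hb : Function.Bijective fun d : Fin 2 → k[X] => α (d 0) * e 0 + α (d 1) * e 1) :
    Function.Bijective fun d : Fin 2 → k[X] => α (d 0) + α (d 1) * e 1 := by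
  have e0 : (fun d : Fin 2 → k[X] => α (d 0) + α (d 1) * e 1) =
      (fun d : Fin 2 → k[X] => α (d 0) * e 0 + α (d 1) * e 1) ∘ fun d => ![d 0 * Polynomial.C c, d 1] := by
    funext d
    simp only [Function.comp_apply, Matrix.cons_val_zero, Matrix.cons_val_one, map_mul, mul_assoc, h, mul_one]
  rw [e0]
  refine hb.comp (Function.bijective_iff_has_inverse.2 ⟨fun d => ![d 0 * Polynomial.C c⁻¹, d 1], fun d => ?_, fun d => ?_⟩)
  · funext i; fin_cases i <;> simp [mul_assoc, ← map_mul, mul_inv_cancel₀ hc0]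
  · funext i; fin_cases i <;> simp [mul_assoc, ← map_mul, inv_mul_cancel₀ hc0]

variable {A₀ A₁ W : Type*} [CommRing A₀] [CommRing A₁] [CommRing W] (α₀ : k[X] →+* A₀) (α₁ : k[X] →+* A₁)
  (ρ₀ : A₀ →+* W) (ρ₁ : A₁ →+* W) (lam : k[T;T⁻¹] →+* W)
  (h₀ : ∀ p, ρ₀ (α₀ p) = lam (posHom k p)) (h₁ : ∀ p, ρ₁ (α₁ p) = lam (negHom k p))

section
variable {m : ℕ} (hm : 0 < m)

include h₀ h₁ hm in
/-- The bases may be taken of the form `(1, y)` and `(1, v)`. -/
theorem exists_normal_form (e : Fin 2 → A₀) (e' : Fin 2 → A₁)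
    (he : Function.Bijective fun c : Fin 2 → k[X] => α₀ (c 0) * e 0 + α₀ (c 1) * e 1)
    (he' : Function.Bijective fun c : Fin 2 → k[X] => α₁ (c 0) * e' 0 + α₁ (c 1) * e' 1)
    (hW : Function.Injective fun c : Fin 2 → k[T;T⁻¹] => lam (c 0) * ρ₀ (e 0) + lam (c 1) * ρ₀ (e 1))
    (ht0 : ρ₁ (e' 0) = ρ₀ (e 0)) (ht1 : ρ₁ (e' 1) = lam (LaurentPolynomial.T (-(m : ℤ))) * ρ₀ (e 1)) :
    ∃ (y : A₀) (v : A₁), Function.Bijective (fun c : Fin 2 → k[X] => α₀ (c 0) + α₀ (c 1) * y) ∧
      Function.Bijective (fun c : Fin 2 → k[X] => α₁ (c 0) + α₁ (c 1) * v) ∧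
      Function.Injective (fun c : Fin 2 → k[T;T⁻¹] => lam (c 0) + lam (c 1) * ρ₀ y) ∧
      ρ₁ v = lam (LaurentPolynomial.T (-(m : ℤ))) * ρ₀ y := by
  obtain ⟨a, ha⟩ := he.2 1
  obtain ⟨b, hb⟩ := he'.2 1
  simp only at ha hb
  have hE : ![posHom k (a 0), posHom k (a 1)] =
      ![negHom k (b 0), negHom k (b 1) * LaurentPolynomial.T (-(m : ℤ))] := by
    refine hW ?_
    have h2 := (congrArg ρ₀ ha).trans ((map_one ρ₀).trans ((map_one ρ₁).symm.trans (congrArg ρ₁ hb).symm))
    simp only [map_add, map_mul, h₀, h₁, ht0, ht1] at h2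
    simpa [mul_assoc] using h2
  have hE0 : posHom k (a 0) = negHom k (b 0) := congrFun hE 0
  have hE1 : posHom k (a 1) = negHom k (b 1) * LaurentPolynomial.T (-(m : ℤ)) := congrFun hE 1
  obtain ⟨c, hc, hc'⟩ := eq_C_of_eq hE0
  obtain ⟨hz, hz'⟩ := eq_zero_of_eq hm hE1
  rw [hc, hz, map_zero, zero_mul, add_zero] at ha
  rw [hc', hz', map_zero, zero_mul, add_zero] at hb
  have hc0 : c ≠ 0 := by
    intro h0
    rw [h0, map_zero, map_zero, zero_mul] at ha
    have : (fun _ : Fin 2 => (1 : k[X])) = fun _ => 0 := he.1 (by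
      have h01 : (0 : A₀) = 1 := ha
      exact (eq_zero_of_zero_eq_one h01 _).trans (eq_zero_of_zero_eq_one h01 _).symm)
    exact one_ne_zero (congrFun this 0)
  have hρ : lam (LaurentPolynomial.C c) * ρ₀ (e 0) = 1 := by
    rw [← posHom_C, ← h₀, ← map_mul, ha, map_one]
  refine ⟨e 1, e' 1, bijective_change α₀ e hc0 ha he, bijective_change α₁ e' hc0 hb he', fun d d' h => ?_, ht1⟩
  have h2 : (![d 0 * LaurentPolynomial.C c, d 1] : Fin 2 → k[T;T⁻¹]) = ![d' 0 * LaurentPolynomial.C c, d' 1] := by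
    refine hW ?_
    simpa [mul_assoc, hρ] using h
  have hu : LaurentPolynomial.C c ≠ (0 : k[T;T⁻¹]) := fun h0 => by
    rw [← posHom_C] at h0
    exact hc0 (Polynomial.C_eq_zero.1 (toLaurent_injective (h0.trans (map_zero _).symm)))
  funext i
  fin_cases i
  · have h3 := congrFun h2 0
    simp only [Matrix.cons_val_zero] at h3
    exact mul_right_cancel₀ hu h3
  · exact congrFun h2 1

variable {y : A₀} {v : A₁}
  (hy : Function.Bijective fun c : Fin 2 → k[X] => α₀ (c 0) + α₀ (c 1) * y)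
  (hv : Function.Bijective fun c : Fin 2 → k[X] => α₁ (c 0) + α₁ (c 1) * v)
  (hW : Function.Injective fun c : Fin 2 → k[T;T⁻¹] => lam (c 0) + lam (c 1) * ρ₀ y)
  (htr : ρ₁ v = lam (LaurentPolynomial.T (-(m : ℤ))) * ρ₀ y)

include h₀ h₁ hy hv hW htr in
/-- The equation, with its degree bounds. -/
theorem exists_equation : ∃ P Q : k[X], P.natDegree ≤ 2 * m ∧ Q.natDegree ≤ m ∧
    y ^ 2 + α₀ Q * y = α₀ P := by
  obtain ⟨a, ha⟩ := hy.2 (y ^ 2)
  obtain ⟨b, hb⟩ := hv.2 (v ^ 2)
  simp only at ha hb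
  have ha' := congrArg ρ₀ ha
  have hb' := congrArg ρ₁ hb
  simp only [map_add, map_mul, map_pow, h₀, h₁, htr] at ha' hb'
  have hE : ![posHom k (a 0) * LaurentPolynomial.T (-((2 * m : ℕ) : ℤ)),
      posHom k (a 1) * LaurentPolynomial.T (-((2 * m : ℕ) : ℤ))] =
      ![negHom k (b 0), negHom k (b 1) * LaurentPolynomial.T (-(m : ℤ))] := by
    refine hW ?_
    have e : lam (LaurentPolynomial.T (-((2 * m : ℕ) : ℤ))) = lam (LaurentPolynomial.T (-(m : ℤ))) ^ 2 := by
      rw [← map_pow, LaurentPolynomial.T_pow]; congr 2; push_cast; ring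
    simp only [Matrix.cons_val_zero, Matrix.cons_val_one, map_mul, e]
    linear_combination (lam (LaurentPolynomial.T (-(m : ℤ))) ^ 2) * ha' - hb'
  refine ⟨a 0, -(a 1), degree_le_of_eq (congrFun hE 0), ?_, ?_⟩
  · rw [natDegree_neg]
    refine degree_le_of_eq (q := b 1) ?_
    have h1 : posHom k (a 1) * LaurentPolynomial.T (-((2 * m : ℕ) : ℤ)) =
        negHom k (b 1) * LaurentPolynomial.T (-(m : ℤ)) := congrFun hE 1
    refine mul_right_cancel₀ (LaurentPolynomial.isUnit_T (-(m : ℤ)) (R := k)).ne_zero ?_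
    rw [← h1, mul_assoc, ← LaurentPolynomial.T_add]
    congr 2
    push_cast
    ring
  · rw [map_neg, ← ha]
    ring

include h₀ h₁ hy hv hW htr hm in
/-- Normality at infinity bounds the degrees below. -/
theorem le_degree (hnorm : ∀ (q p : k[X]) (z : W), z ^ 2 + lam (negHom k q) * z = lam (negHom k p) → ∃ b, ρ₁ b = z)
    (c Q P : k[X]) (hu : (α₀ c + y) ^ 2 + α₀ Q * (α₀ c + y) = α₀ P) :
    2 * m - 1 ≤ max (2 * Q.natDegree) P.natDegree := by
  by_contra hcon
  rw [not_le, max_lt_iff] at hcon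
  obtain ⟨q, -, hq⟩ := exists_neg_eq Q (m - 1) (by omega)
  obtain ⟨p, -, hp⟩ := exists_neg_eq P (2 * (m - 1)) (by omega)
  let τ := LaurentPolynomial.T (R := k) (-((m - 1 : ℕ) : ℤ))
  obtain ⟨b, hb⟩ := hnorm q p (lam τ * ρ₀ (α₀ c + y)) (by
    rw [hq, hp, map_mul, map_mul, ← h₀, ← h₀,
      show lam (LaurentPolynomial.T (-((2 * (m - 1) : ℕ) : ℤ))) = lam τ ^ 2 by
        rw [← map_pow, LaurentPolynomial.T_pow]; congr 2; push_cast; ring,
      ← hu]
    simp only [map_add, map_mul, map_pow]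
    ring)
  obtain ⟨β, rfl⟩ := hv.2 b
  have hE : ![negHom k (β 0), negHom k (β 1) * LaurentPolynomial.T (-(m : ℤ))] = ![τ * posHom k c, τ] := by
    refine hW ?_
    simp only [map_add, map_mul, h₁, htr, h₀] at hb
    simp only [Matrix.cons_val_zero, Matrix.cons_val_one, map_mul]
    linear_combination hb
  have h1 : negHom k (β 1) * LaurentPolynomial.T (-(m : ℤ)) = τ := congrFun hE 1
  have h2 : posHom k X = negHom k (β 1) := by
    refine mul_right_cancel₀ (LaurentPolynomial.isUnit_T (-(m : ℤ)) (R := k)).ne_zero ?_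
    rw [h1, show posHom k (X : k[X]) = LaurentPolynomial.T 1 from toLaurent_X, ← LaurentPolynomial.T_add]
    congr 1
    omega
  obtain ⟨c', hc', -⟩ := eq_C_of_eq h2
  simpa using congrArg natDegree hc'

end

end Groth.Agent.HypEq17
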