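import Groth.Agent.Lib.HypEq17.Split
import Groth.Agent.Lib.HypEq17.Alg
import Groth.Agent.Lib.VarDim.Normal
import Groth.Agent.Lib.SmoothReg17.Basic
import Groth.Agent.Lib.VB17.Setup
import Groth.Agent.Lib.CurveOm17.DoubleCover
import Groth.Agent.Lib.CurveCoh17.TracePair
import Groth.Agent.Lib.ProjSpace.Basic
import Groth.Agent.S10829

/-!
# The equation of a double cover of the projective line
-/

set_option linter.style.haveILetI false
set_option autoImplicit false

universe u

open CategoryTheory TopologicalSpace Opposite CategoryTheory.Limits AlgebraicGeometry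
open scoped LaurentPolynomial

namespace Groth.Agent.HypEq17

open Groth.Agent.M1 Groth.Agent.M2 Groth.Agent.CurveCoh17 Groth.Agent.P1Split

variable {k : Type u} [Field k] {X : Scheme.{u}} (f : X ⟶ CohB1.ProjSpace 1 k)

/-- The function pulled back from a chart. -/
noncomputable def chartHom (a : Fin 2) : Polynomial k →+* Γ(X, f ⁻¹ᵁ U k a) :=
  (f.app (U k a)).hom.comp (coordHom k a)

/-- The function pulled back from the overlap. -/
noncomputable def overHom : k[T;T⁻¹] →+* Γ(X, f ⁻¹ᵁ U01 k) := (f.app (U01 k)).hom.comp (lauHom k)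

/-- Restriction to the overlap. -/
noncomputable def resOver (a : Fin 2) : Γ(X, f ⁻¹ᵁ U k a) →+* Γ(X, f ⁻¹ᵁ U01 k) :=
  (X.presheaf.map (homOfLE (f.preimage_mono (U01_le k a))).op).hom

theorem resOver_chartHom (a : Fin 2) (p : Polynomial k) :
    resOver f a (chartHom f a p) = (f.app (U01 k)).hom (resHom k a p) := by
  exact (ConcreteCategory.congr_hom (f.naturality (homOfLE (U01_le k a)).op) (coordHom k a p)).symm

theorem resOver_chartHom_zero (p : Polynomial k) : resOver f 0 (chartHom f 0 p) = overHom f (posHom k p) := by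
  rw [resOver_chartHom, ← lauHom_posHom]; rfl

theorem resOver_chartHom_one (p : Polynomial k) : resOver f 1 (chartHom f 1 p) = overHom f (negHom k p) := by
  rw [resOver_chartHom, ← lauHom_negHom]; rfl

variable [X.Over (Spec (CommRingCat.of k))]

/-- Normal form for a double cover of the projective line by a curve of genus `g`. -/
theorem exists_data [IsIntegral X] [IsProper (X ↘ Spec (CommRingCat.of k))] [Smooth (X ↘ Spec (CommRingCat.of k))]
    (hdim : topologicalKrullDim X = 1) (hX0 : Module.finrank k (Coh.HH X (Coh.structureModule X) 0) = 1)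
    [IsFinite f] (hf : f ≫ CohB1.ProjSpace.toSpec 1 k = X ↘ Spec (CommRingCat.of k))
    (hd : f.residueDegree (genericPoint X) = 2) {g : ℕ} (hg : Curv2.genus k X = g) :
    ∃ (y : Γ(X, f ⁻¹ᵁ U k 0)) (P Q : Polynomial k),
      Function.Bijective (fun c : Fin 2 → Polynomial k => chartHom f 0 (c 0) + chartHom f 0 (c 1) * y) ∧
      y ^ 2 + chartHom f 0 Q * y = chartHom f 0 P ∧
      P.natDegree ≤ 2 * g + 2 ∧ Q.natDegree ≤ g + 1 ∧
      ∀ c Q' P' : Polynomial k,
        (chartHom f 0 c + y) ^ 2 + chartHom f 0 Q' * (chartHom f 0 c + y) = chartHom f 0 P' →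
        2 * g + 1 ≤ max (2 * Q'.natDegree) P'.natDegree := by
  letI : (CohB1.ProjSpace 1 k).Over (Spec (CommRingCat.of k)) := ⟨CohB1.ProjSpace.toSpec 1 k⟩
  haveI := RegExt.isIntegral_projSpace 1 k
  haveI : IsProper ((CohB1.ProjSpace 1 k) ↘ Spec (CommRingCat.of k)) := ProjSpace.isProper_toSpec 1 k
  haveI : Smooth ((CohB1.ProjSpace 1 k) ↘ Spec (CommRingCat.of k)) := ProjSpace.smooth_toSpec 1 k
  have hdimY : topologicalKrullDim (CohB1.ProjSpace 1 k) = 1 := by rw [Groth.Agent.S10829.result k 1]; rfl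
  haveI := VB17.isNoetherian_of_over (k := k) (X := CohB1.ProjSpace 1 k)
  haveI : JacobsonSpace X := LocallyOfFiniteType.jacobsonSpace (X ↘ Spec (CommRingCat.of k))
  have hξ := CurveOm17.map_genericPoint_of_isFinite hdimY.le hdim f
  haveI : Flat f := CurveCoh17.flat_of_pid f (fun y => VB17.pid_stalk (k := k) hdimY.le y) hξ
  haveI : LocallyOfFinitePresentation f := {
    finitePresentation_appLE := fun {U} hU {V} hV le =>
      haveI := IsLocallyNoetherian.component_noetherian (X := CohB1.ProjSpace 1 k) ⟨U, hU⟩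
      RingHom.FinitePresentation.of_finiteType.mp (f.finiteType_appLE hU hV le) }
  obtain ⟨n, hn⟩ := VB17.exists_rank_of_isFinLocFree (isFinLocFree_pushO f)
  obtain rfl : n = 2 := by
    have h1 := AmpleFin18.finrank_pushO_genericPoint hdim.le hdimY f hξ hξ
    obtain ⟨e⟩ := nonempty_stalk_equiv hn (genericPoint (CohB1.ProjSpace 1 k))
    rw [e.finrank_eq, Module.finrank_fin_fun, hd] at h1
    exact h1
  obtain ⟨φ⟩ := exists_split f hf hn hX0 hg
  let d : Fin 2 → ℤ := ![0, -((g : ℤ) + 1)]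
  let e : ∀ a, Fin 2 → Γ(X, f ⁻¹ᵁ U k a) := fun a i => φ.inv.app (U k a) (splitGen k d a i)
  have he : ∀ a, IsBas (pushO f) (U k a) (e a) := fun a => (isBas_splitGen k d a).map_iso φ.symm
  have hsum : ∀ (V : (CohB1.ProjSpace 1 k).Opens) (a : Fin 2) (h : V ≤ U k a) (c : Fin 2 → Γ(CohB1.ProjSpace 1 k, V)),
      (∑ i, c i • mres (pushO f) h (e a i) : Γ(pushO f, V)) =
        (f.app V (c 0) * X.presheaf.map (homOfLE (f.preimage_mono h)).op (e a 0) +
          f.app V (c 1) * X.presheaf.map (homOfLE (f.preimage_mono h)).op (e a 1) : Γ(X, f ⁻¹ᵁ V)) := fun V a h c => by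
    rw [Fin.sum_univ_two]
    rfl
  have hb : ∀ a, Function.Bijective fun c : Fin 2 → Polynomial k =>
      chartHom f a (c 0) * e a 0 + chartHom f a (c 1) * e a 1 := fun a => by
    have h1 := (he a (U k a) le_rfl).comp
      ((coordHom_bijective k a).comp_left : Function.Bijective fun (c : Fin 2 → Polynomial k) => coordHom k a ∘ c)
    have e1 : ∀ i, X.presheaf.map (homOfLE (f.preimage_mono (le_refl (U k a)))).op (e a i) = e a i := fun i =>
      mres_id (Coh.structureModule X) _ (e a i)
    refine (congrArg Function.Bijective (funext fun c => ?_)).mp h1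
    exact (hsum _ a le_rfl (coordHom k a ∘ c)).trans (by rw [e1, e1]; rfl)
  have hW : Function.Injective fun c : Fin 2 → k[T;T⁻¹] =>
      overHom f (c 0) * resOver f 0 (e 0 0) + overHom f (c 1) * resOver f 0 (e 0 1) := fun c c' h => by
    have hlau := (lauHom_bijective k).injective
    have h2 : (lauHom k ∘ c : Fin 2 → _) = lauHom k ∘ c' :=
      (he 0 (U01 k) (U01_le k 0)).1 (by
        dsimp only
        refine (hsum _ 0 (U01_le k 0) (lauHom k ∘ c)).trans ?_
        refine Eq.trans ?_ (hsum _ 0 (U01_le k 0) (lauHom k ∘ c')).symm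
        exact h)
    exact funext fun i => hlau (congrFun h2 i)
  have htr : ∀ i, resOver f 1 (e 1 i) = overHom f (LaurentPolynomial.T (d i)) * resOver f 0 (e 0 i) := fun i => by
    have h := congrArg (φ.inv.app (U01 k)) (splitGen_transition k d i)
    rw [app_mres, Scheme.Modules.Hom.app_smul, app_mres] at h
    exact h
  obtain ⟨y, v, hy, hv, hWy, hvy⟩ := exists_normal_form (chartHom f 0) (chartHom f 1) (resOver f 0) (resOver f 1)
    (overHom f) (resOver_chartHom_zero f) (resOver_chartHom_one f) (Nat.succ_pos g) (e 0) (e 1) (hb 0) (hb 1) hW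
    (by rw [htr 0, show d 0 = 0 from rfl, LaurentPolynomial.T_zero, map_one, one_mul])
    (by rw [htr 1, show d 1 = -((g.succ : ℕ) : ℤ) by show -((g : ℤ) + 1) = _; push_cast; ring])
  obtain ⟨P, Q, hP, hQ, heq⟩ := exists_equation (chartHom f 0) (chartHom f 1) (resOver f 0) (resOver f 1)
    (overHom f) (resOver_chartHom_zero f) (resOver_chartHom_one f) hy hv hWy hvy
  refine ⟨y, P, Q, hy, heq, by omega, by omega, fun c Q' P' h => ?_⟩
  have hle := le_degree (chartHom f 0) (chartHom f 1) (resOver f 0) (resOver f 1) (overHom f)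
    (resOver_chartHom_zero f) (resOver_chartHom_one f) (Nat.succ_pos g) hy hv hWy hvy ?_ c Q' P' h
  · omega
  -- normality of the chart at infinity
  intro q p z hz
  have hmem : ∀ a, genericPoint X ∈ f ⁻¹ᵁ U k a := fun a => by
    show f (genericPoint X) ∈ U k a
    rw [hξ]
    obtain ⟨z⟩ := nonempty_U k a
    exact (genericPoint_specializes (α := (CohB1.ProjSpace 1 k : Scheme.{u})) z.1).mem_open (U k a).2 z.2
  haveI : Nonempty ((f ⁻¹ᵁ U k 1 : X.Opens) : Scheme.{u}) := ⟨⟨_, hmem 1⟩⟩
  haveI : Nonempty ((f ⁻¹ᵁ U01 k : X.Opens) : Scheme.{u}) := ⟨⟨_, hmem 0, hmem 1⟩⟩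
  haveI := functionField_isFractionRing_of_isAffineOpen X (f ⁻¹ᵁ U k 1) (@IsAffineOpen.preimage X (CohB1.ProjSpace 1 k) (U k 1) (isAffineOpen_U k 1) f inferInstance)
  haveI : IsIntegrallyClosed Γ(X, f ⁻¹ᵁ U k 1) := VarDim.isIntegrallyClosed_sections
    (fun x => SmoothReg17.isIntegrallyClosed_stalk (X ↘ Spec (CommRingCat.of k)) x) _
  let γ := (X.germToFunctionField (f ⁻¹ᵁ U01 k)).hom
  have hγ : ∀ b, γ (resOver f 1 b) = algebraMap Γ(X, f ⁻¹ᵁ U k 1) X.functionField b := fun b =>
    X.presheaf.germ_res_apply (homOfLE (f.preimage_mono (U01_le k 1))) (genericPoint X) _ b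
  have hint : IsIntegral Γ(X, f ⁻¹ᵁ U k 1) (γ z) := by
    refine ⟨Polynomial.X ^ 2 + Polynomial.C (chartHom f 1 q) * Polynomial.X - Polynomial.C (chartHom f 1 p),
      by monicity!, ?_⟩
    simp only [Polynomial.eval₂_sub, Polynomial.eval₂_add, Polynomial.eval₂_mul, Polynomial.eval₂_X_pow,
      Polynomial.eval₂_C, Polynomial.eval₂_X]
    rw [← hγ, ← hγ, resOver_chartHom_one, resOver_chartHom_one, ← map_pow, ← map_mul, ← map_add, hz, sub_self]
  obtain ⟨b, hb'⟩ := IsIntegrallyClosed.isIntegral_iff.1 hint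
  exact ⟨b, X.germToFunctionField_injective (f ⁻¹ᵁ U01 k) ((hγ b).trans hb')⟩

end Groth.Agent.HypEq17
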