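import Mathlib.FieldTheory.IntermediateField.Adjoin.Basic
import Mathlib.FieldTheory.PurelyInseparable.Basic
import Mathlib.RingTheory.Localization.FractionRing

/-!
# The fraction field of a free rank two algebra over a polynomial ring
-/

set_option autoImplicit false

universe u v w

open Polynomial

namespace Groth.Agent.HypEq17

variable {k : Type u} [Field k] {B : Type v} [CommRing B] {K : Type w} [Field K] [Algebra k K]
  [Algebra B K] [IsFractionRing B K] (α : k[X] →+* B)
  (hα : ∀ c : k, algebraMap B K (α (Polynomial.C c)) = algebraMap k K c)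

include hα in
theorem aeval_param (r : k[X]) :
    Polynomial.aeval (algebraMap B K (α X)) r = algebraMap B K (α r) := by
  have h : (Polynomial.aeval (algebraMap B K (α X))).toRingHom = (algebraMap B K).comp α :=
    Polynomial.ringHom_ext (fun c => by simp [hα]) (by simp)
  exact DFunLike.congr_fun h r

variable {y : B} (hy : Function.Bijective fun c : Fin 2 → k[X] => α (c 0) + α (c 1) * y)

include hα hy in
theorem adjoin_pair_eq_top (c : k[X]) :
    IntermediateField.adjoin k ({algebraMap B K (α X), algebraMap B K (α c + y)} : Set K) = ⊤ := by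
  set L := IntermediateField.adjoin k ({algebraMap B K (α X), algebraMap B K (α c + y)} : Set K)
  have ht : algebraMap B K (α X) ∈ L := IntermediateField.subset_adjoin k _ (by simp)
  have hu : algebraMap B K (α c + y) ∈ L := IntermediateField.subset_adjoin k _ (by simp)
  have hp : ∀ r : k[X], algebraMap B K (α r) ∈ L := fun r => by
    rw [← aeval_param α hα r]
    induction r using Polynomial.induction_on' with
    | add p q hp hq => rw [map_add]; exact L.add_mem hp hq
    | monomial n a =>
      rw [Polynomial.aeval_monomial]
      exact L.mul_mem (L.algebraMap_mem a) (pow_mem ht n)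
  have hyL : algebraMap B K y ∈ L := by
    have h := L.sub_mem hu (hp c)
    rwa [map_add, add_sub_cancel_left] at h
  have hall : ∀ b : B, algebraMap B K b ∈ L := fun b => by
    obtain ⟨d, rfl⟩ := hy.2 b
    simp only [map_add, map_mul]
    exact L.add_mem (hp _) (L.mul_mem (hp _) hyL)
  refine eq_top_iff.2 fun z _ => ?_
  obtain ⟨a, b, -, rfl⟩ := IsFractionRing.div_surjective (A := B) z
  exact L.div_mem (hall a) (hall b)

include hα hy in
theorem y_notMem_adjoin :
    algebraMap B K y ∉ IntermediateField.adjoin k ({algebraMap B K (α X)} : Set K) := fun h => by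
  obtain ⟨r, s, hrs⟩ := IntermediateField.mem_adjoin_simple_iff (F := k) _ |>.1 h
  rw [aeval_param α hα r, aeval_param α hα s] at hrs
  rcases eq_or_ne (algebraMap B K (α s)) 0 with h0 | h0
  · rw [h0, div_zero] at hrs
    have h1 : (![0, 1] : Fin 2 → k[X]) = fun _ => 0 := hy.1 (by
      simpa using IsFractionRing.injective B K (hrs.trans (map_zero _).symm))
    exact one_ne_zero (congrFun h1 1)
  · rw [eq_div_iff h0, ← map_mul] at hrs
    have h1 : (![0, s] : Fin 2 → k[X]) = ![r, 0] := hy.1 (by
      simpa [mul_comm] using IsFractionRing.injective B K hrs)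
    have hs : s = 0 := congrFun h1 1
    rw [hs, map_zero, map_zero] at h0
    exact h0 rfl

variable {P Q : k[X]} (heq : y ^ 2 + α Q * y = α P)

include hα heq in
theorem aeval_equation :
    algebraMap B K y ^ 2 + Polynomial.aeval (algebraMap B K (α X)) Q * algebraMap B K y =
      Polynomial.aeval (algebraMap B K (α X)) P := by
  rw [aeval_param α hα, aeval_param α hα, ← map_mul, ← map_pow, ← map_add, heq]

include hα hy heq in
/-- The extension has degree two, and is separable away from the inseparable case. -/
theorem finrank_eq_two :
    Module.finrank (IntermediateField.adjoin k ({algebraMap B K (α X)} : Set K)) K = 2 ∧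
      (((2 : k) ≠ 0 ∨ Q ≠ 0) →
        Algebra.IsSeparable (IntermediateField.adjoin k ({algebraMap B K (α X)} : Set K)) K) := by
  set F := IntermediateField.adjoin k ({algebraMap B K (α X)} : Set K)
  have hmem : ∀ r : k[X], algebraMap B K (α r) ∈ F := fun r => by
    rw [← aeval_param α hα r]
    exact IntermediateField.algebra_adjoin_le_adjoin k _ (Polynomial.aeval_mem_adjoin_singleton k _)
  let Y := algebraMap B K y
  let p : Polynomial F := Polynomial.X ^ 2 + Polynomial.C (⟨_, hmem Q⟩ : F) * Polynomial.X -
    Polynomial.C (⟨_, hmem P⟩ : F)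
  have hpm : p.Monic := by simp only [p]; monicity!
  have hpd : p.natDegree = 2 := by simp only [p]; compute_degree!
  have hp0 : Polynomial.aeval Y p = 0 := by
    simp only [p, map_sub, map_add, map_mul, map_pow, Polynomial.aeval_X, Polynomial.aeval_C,
      IntermediateField.algebraMap_apply]
    rw [← map_pow, ← map_mul, ← map_add, heq, sub_self]
  have hint : IsIntegral F Y := ⟨p, hpm, hp0⟩
  have hgen : IntermediateField.adjoin F ({Y} : Set K) = ⊤ := by
    apply IntermediateField.restrictScalars_injective k
    rw [IntermediateField.adjoin_adjoin_left, IntermediateField.restrictScalars_top, Set.singleton_union]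
    have h := adjoin_pair_eq_top α hα hy 0
    rwa [map_zero, zero_add] at h
  have hdle : (minpoly F Y).natDegree ≤ 2 := hpd ▸
    Polynomial.natDegree_le_of_dvd (minpoly.dvd F Y hp0) hpm.ne_zero
  have hdne : (minpoly F Y).natDegree ≠ 1 := fun h => by
    obtain ⟨z, hz⟩ := minpoly.natDegree_eq_one_iff.1 h
    have hYF : Y ∈ F := by rw [← hz]; exact z.2
    exact y_notMem_adjoin α hα hy hYF
  have hdpos : 0 < (minpoly F Y).natDegree := minpoly.natDegree_pos hint
  have hd : (minpoly F Y).natDegree = 2 := by omega
  have hmin : minpoly F Y = p := (Polynomial.eq_of_monic_of_associated (minpoly.monic hint) hpm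
    (Polynomial.associated_of_dvd_of_natDegree_le (minpoly.dvd F Y hp0) hpm.ne_zero (by rw [hd, hpd])))
  refine ⟨?_, fun hsep => ?_⟩
  · rw [← IntermediateField.finrank_top', ← hgen, IntermediateField.adjoin.finrank hint, hd]
  · have hs : IsSeparable F Y := by
      show (minpoly F Y).Separable
      rw [Polynomial.separable_iff_derivative_ne_zero (minpoly.irreducible hint), hmin]
      intro h0
      have hder : Polynomial.derivative p = Polynomial.C (2 : F) * Polynomial.X + Polynomial.C (⟨_, hmem Q⟩ : F) := by
        simp [p, Polynomial.C_ofNat]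
        try norm_num
      rw [hder] at h0
      rcases hsep with h2 | hQ
      · have h1 := congrArg (fun r => Polynomial.coeff r 1) h0
        simp [Polynomial.coeff_C] at h1
        exact h2 (by
          have h4 : algebraMap k K 2 = 0 := by rw [map_ofNat]; exact (map_ofNat (algebraMap F K) 2).symm.trans (congrArg (algebraMap F K) h1 |>.trans (map_zero _))
          exact (algebraMap k K).injective (h4.trans (map_zero _).symm))
      · have h1 := congrArg (fun r => Polynomial.coeff r 0) h0
        simp [Polynomial.coeff_C] at h1
        refine hQ ?_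
        have h2 : (![Q, 0] : Fin 2 → k[X]) = fun _ => 0 := hy.1 (by
          simpa using IsFractionRing.injective B K ((congrArg Subtype.val h1).trans (map_zero _).symm))
        exact congrFun h2 0
    haveI : Algebra.IsSeparable F (IntermediateField.adjoin F ({Y} : Set K)) :=
      IntermediateField.isSeparable_adjoin_simple_iff_isSeparable F K |>.2 hs
    rw [hgen] at this
    exact Algebra.IsSeparable.of_algHom F _ (IntermediateField.topEquiv (F := F) (E := K)).symm.toAlgHom

include hy heq in
omit [Algebra k K] in
/-- In the inseparable case squares come from the polynomial ring. -/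
theorem exists_sq_eq (h2 : (2 : k) = 0) (hQ : Q = 0) (z : K) :
    ∃ r s : k[X], z ^ 2 = algebraMap B K (α r) / algebraMap B K (α s) := by
  have hsq : ∀ b : B, ∃ r : k[X], b ^ 2 = α r := fun b => by
    obtain ⟨c, rfl⟩ := hy.2 b
    refine ⟨c 0 ^ 2 + c 1 ^ 2 * P, ?_⟩
    have h20 : (2 : B) = 0 := by
      have : (2 : k[X]) = 0 := by
        rw [show (2 : k[X]) = Polynomial.C 2 from (map_ofNat _ _).symm, h2, map_zero]
      rw [← map_ofNat α 2, this, map_zero]
    rw [hQ, map_zero, zero_mul, add_zero] at heq
    simp only [map_add, map_mul, map_pow]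
    linear_combination (α (c 1)) ^ 2 * heq + (α (c 0) * α (c 1) * y) * h20
  obtain ⟨a, b, -, rfl⟩ := IsFractionRing.div_surjective (A := B) z
  obtain ⟨r, hr⟩ := hsq a
  obtain ⟨s, hs⟩ := hsq b
  exact ⟨r, s, by rw [div_pow, ← map_pow, ← map_pow, hr, hs]⟩

end Groth.Agent.HypEq17
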