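import Groth.Agent.Lib.HypEq17.Unique
import Groth.Agent.Lib.HypEq17.Main
import Groth.Agent.Lib.HypEq17.Apps
import Groth.Agent.Lib.Curve17.FunctionField
import Groth.Agent.Lib.CurveCoh17.DegTwo
import Groth.Agent.Lib.CurveOm17.PullP1
import Groth.Agent.Lib.VB17.Proper

/-!
# The involution of a double cover of the projective line
-/

set_option linter.style.haveILetI false
set_option autoImplicit false

universe u

open CategoryTheory CategoryTheory.Limits AlgebraicGeometry TopologicalSpace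

namespace Groth.Agent.HypEq17

attribute [local instance] Curv2.stalkAlgebra

variable {k : Type u} [Field k] {X : Scheme.{u}} [X.Over (Spec (CommRingCat.of k))] [IsIntegral X]

/-- The endomorphism of the function field given by an endomorphism fixing the generic point. -/
noncomputable def endo (σ : X ⟶ X) (e : σ (genericPoint X) = genericPoint X)
    (hσ : σ ≫ (X ↘ Spec (CommRingCat.of k)) = X ↘ Spec (CommRingCat.of k)) :
    X.functionField →ₐ[k] X.functionField :=
  { (Curve17.genMap σ e).hom with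
    commutes' := fun c => ConcreteCategory.congr_hom
      (Curve17.genMap_baseStalk (X ↘ Spec (CommRingCat.of k)) (X ↘ Spec (CommRingCat.of k)) σ hσ e) c }

theorem endo_apply (σ : X ⟶ X) (e : σ (genericPoint X) = genericPoint X)
    (hσ : σ ≫ (X ↘ Spec (CommRingCat.of k)) = X ↘ Spec (CommRingCat.of k)) (z : X.functionField) :
    endo σ e hσ z = (Curve17.genMap σ e).hom z := rfl

theorem fromSpecStalk_comp (σ : X ⟶ X) (e : σ (genericPoint X) = genericPoint X) :
    X.fromSpecStalk (genericPoint X) ≫ σ = Spec.map (Curve17.genMap σ e) ≫ X.fromSpecStalk (genericPoint X) := by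
  rw [Curve17.genMap, Spec.map_comp, Category.assoc, Scheme.SpecMap_stalkSpecializes_fromSpecStalk,
    Scheme.SpecMap_stalkMap_fromSpecStalk]

variable [IsProper (X ↘ Spec (CommRingCat.of k))]

/-- An endomorphism over `k` is determined by its action on the function field. -/
theorem eq_of_endo_eq {σ τ : X ⟶ X} (eσ : σ (genericPoint X) = genericPoint X)
    (eτ : τ (genericPoint X) = genericPoint X)
    (hσ : σ ≫ (X ↘ Spec (CommRingCat.of k)) = X ↘ Spec (CommRingCat.of k))
    (hτ : τ ≫ (X ↘ Spec (CommRingCat.of k)) = X ↘ Spec (CommRingCat.of k))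
    (h : endo σ eσ hσ = endo τ eτ hτ) : σ = τ := by
  haveI := VB17.isSeparated_of_over (k := k) (X := X)
  haveI : IsDominant (X.fromSpecStalk (genericPoint X)) := by
    refine ⟨fun y => ?_⟩
    refine closure_mono (s := {genericPoint X}) (t := Set.range (X.fromSpecStalk (genericPoint X))) ?_
      (specializes_iff_mem_closure.1 (genericPoint_specializes y))
    rintro _ rfl
    exact ⟨_, Scheme.fromSpecStalk_closedPoint⟩
  refine ext_of_isDominant_of_isSeparated (X ↘ Spec (CommRingCat.of k)) (hσ.trans hτ.symm)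
    (X.fromSpecStalk (genericPoint X)) ?_
  rw [fromSpecStalk_comp σ eσ, fromSpecStalk_comp τ eτ]
  congr 2
  ext z
  exact AlgHom.congr_fun h z

omit [IsProper (X ↘ Spec (CommRingCat.of k))] in
theorem endo_id (e : (𝟙 X : X ⟶ X) (genericPoint X) = genericPoint X)
    (hσ : 𝟙 X ≫ (X ↘ Spec (CommRingCat.of k)) = X ↘ Spec (CommRingCat.of k)) :
    endo (𝟙 X) e hσ = AlgHom.id k X.functionField := by
  refine AlgHom.ext fun z => ?_
  show (Curve17.genMap (𝟙 X) e).hom z = z
  have h : Curve17.genMap (𝟙 X) e = 𝟙 _ := by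
    rw [Curve17.genMap, Scheme.Hom.stalkMap_id]
    exact (Category.comp_id _).trans (TopCat.Presheaf.stalkSpecializes_refl _ _)
  rw [h]
  rfl

omit [IsProper (X ↘ Spec (CommRingCat.of k))] [X.Over (Spec (CommRingCat.of k))] in
/-- An endomorphism over `Y` fixes the functions coming from `Y`. -/
theorem genMap_germ_app {Y : Scheme.{u}} (σ : X ⟶ X) (h : X ⟶ Y) (hσh : σ ≫ h = h)
    (e : σ (genericPoint X) = genericPoint X) (U : Y.Opens) (hmem : genericPoint X ∈ h ⁻¹ᵁ U) (s : Γ(Y, U)) :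
    (Curve17.genMap σ e).hom (X.presheaf.germ (h ⁻¹ᵁ U) (genericPoint X) hmem (h.app U s)) =
      X.presheaf.germ (h ⁻¹ᵁ U) (genericPoint X) hmem (h.app U s) := by
  have hle : h ⁻¹ᵁ U ≤ σ ⁻¹ᵁ (h ⁻¹ᵁ U) := by
    intro x hx
    show h (σ x) ∈ U
    rwa [← Scheme.Hom.comp_apply, hσh]
  rw [Curve17.genMap, CommRingCat.comp_apply, TopCat.Presheaf.germ_stalkSpecializes_apply,
    Scheme.Hom.germ_stalkMap_apply, ← X.presheaf.germ_res_apply (homOfLE hle) (genericPoint X) hmem]
  congr 1
  have key : h.appLE U (h ⁻¹ᵁ U) le_rfl ≫ σ.appLE (h ⁻¹ᵁ U) (h ⁻¹ᵁ U) hle = h.app U := by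
    rw [Scheme.Hom.appLE_comp_appLE]
    simp only [hσh, Scheme.Hom.appLE_eq_app]
  have := ConcreteCategory.congr_hom key s
  rw [Scheme.Hom.appLE_eq_app] at this
  simpa [Scheme.Hom.appLE] using this

variable [IsAlgClosed k] [Smooth (X ↘ Spec (CommRingCat.of k))]

/-- The function field presentation attached to a double cover of the projective line, fixed by
every endomorphism over the line. -/
theorem exists_dbl_of_doubleCover (h2 : (2 : k) ≠ 0) (hdim : topologicalKrullDim X = 1)
    (hg : 2 ≤ Curv2.genus k X) (h : X ⟶ CohB1.ProjSpace 1 k)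
    (hh : h ≫ CohB1.ProjSpace.toSpec 1 k = X ↘ Spec (CommRingCat.of k)) [IsFinite h] [Flat h]
    (hr : ∀ y : ↥(CohB1.ProjSpace 1 k), h.finrank y = 2) :
    ∃ S : Dbl k X.functionField, ∀ σ : X ⟶ X, σ ≫ h = h →
      ∃ (e : σ (genericPoint X) = genericPoint X)
        (hσ : σ ≫ (X ↘ Spec (CommRingCat.of k)) = X ↘ Spec (CommRingCat.of k)), endo σ e hσ S.t = S.t := by
  haveI := RegExt.isIntegral_projSpace 1 k
  haveI := VB17.isNoetherian_of_over (k := k) (X := X)
  have hdimY : topologicalKrullDim (CohB1.ProjSpace 1 k) = 1 := by rw [Groth.Agent.S10829.result k 1]; rfl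
  haveI : JacobsonSpace X := LocallyOfFiniteType.jacobsonSpace (X ↘ Spec (CommRingCat.of k))
  haveI : LocallyOfFiniteType (CohB1.ProjSpace.toSpec 1 k) := by
    haveI := ProjSpace.isProper_toSpec 1 k
    infer_instance
  haveI : JacobsonSpace (CohB1.ProjSpace 1 k) := LocallyOfFiniteType.jacobsonSpace (CohB1.ProjSpace.toSpec 1 k)
  have hξ := CurveOm17.map_genericPoint_of_isFinite hdimY.le hdim h
  have huniq : ∀ x, h x = genericPoint (CohB1.ProjSpace 1 k) → x = genericPoint X := fun x =>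
    (Curve17.map_eq_genericPoint_iff hdim.le hdimY h hξ x).1
  have hd : h.residueDegree (genericPoint X) = 2 := by
    rw [← CurveCoh17.finrank_genericPoint_eq_residueDegree h hξ huniq]
    exact hr _
  haveI : ConnectedSpace X := inferInstance
  obtain ⟨y, P, Q, hy, heq, -, -, hlow⟩ := exists_data h hdim VB17.h0_one_of_smooth hh hd rfl
  have hmem : h (genericPoint X) ∈ P1Split.U k 0 := by
    rw [hξ]
    obtain ⟨z⟩ := P1Split.nonempty_U k 0
    exact (genericPoint_specializes (α := (CohB1.ProjSpace 1 k : Scheme.{u})) z.1).mem_open (P1Split.U k 0).2 z.2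
  haveI : Nonempty ((h ⁻¹ᵁ P1Split.U k 0 : X.Opens) : Scheme.{u}) := ⟨⟨genericPoint X, hmem⟩⟩
  haveI := functionField_isFractionRing_of_isAffineOpen X (h ⁻¹ᵁ P1Split.U k 0)
    (@IsAffineOpen.preimage X (CohB1.ProjSpace 1 k) (P1Split.U k 0) (P1Split.isAffineOpen_U k 0) h inferInstance)
  haveI : IsIntegrallyClosed Γ(X, h ⁻¹ᵁ P1Split.U k 0) := VarDim.isIntegrallyClosed_sections
    (fun x => SmoothReg17.isIntegrallyClosed_stalk (X ↘ Spec (CommRingCat.of k)) x) _
  let α := chartHom h 0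
  let φ := algebraMap Γ(X, h ⁻¹ᵁ P1Split.U k 0) X.functionField
  have hα : ∀ c : k, φ (α (Polynomial.C c)) = algebraMap k X.functionField c := fun c => by
    show φ (chartHom h 0 (Polynomial.C c)) = _
    rw [chartHom_C h (X ↘ Spec (CommRingCat.of k)) hh]
    exact X.presheaf.germ_res_apply _ (genericPoint X) hmem _
  -- completing the square
  let c : Polynomial k := Polynomial.C ((2 : k)⁻¹) * Q
  have hc : Q = c + c := by
    rw [← add_mul, ← map_add, ← two_mul, mul_inv_cancel₀ h2, map_one, one_mul]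
  have hsq : (α c + y) ^ 2 = α (P + c ^ 2) := by
    have h3 : α Q = α c + α c := by rw [← map_add, ← hc]
    rw [map_add, map_pow, ← heq]
    linear_combination (-y) * h3
  have hy' : Function.Bijective fun d : Fin 2 → Polynomial k => α (d 0) + α (d 1) * (α c + y) := by
    have hb : Function.Bijective fun d : Fin 2 → Polynomial k => (![d 0 + d 1 * c, d 1] : Fin 2 → Polynomial k) :=
      Function.bijective_iff_has_inverse.2 ⟨fun d => ![d 0 - d 1 * c, d 1],
        fun d => by ext1 i; fin_cases i <;> simp,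
        fun d => by ext1 i; fin_cases i <;> simp⟩
    convert hy.comp hb using 1
    funext d
    simp only [Function.comp_apply, Matrix.cons_val_zero, Matrix.cons_val_one, map_add, map_mul]
    ring
  have hF : 5 ≤ (P + c ^ 2).natDegree := by
    have h5 := hlow c 0 (P + c ^ 2) (by rw [map_zero, zero_mul, add_zero]; exact hsq)
    rw [Polynomial.natDegree_zero] at h5
    omega
  obtain ⟨S, hS⟩ := exists_dbl (K := X.functionField) α hα hy' hsq hF
  refine ⟨S, fun σ hσh => ?_⟩
  have e : σ (genericPoint X) = genericPoint X := huniq _ (by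
    rw [← Scheme.Hom.comp_apply, hσh, hξ])
  have hσp : σ ≫ (X ↘ Spec (CommRingCat.of k)) = X ↘ Spec (CommRingCat.of k) := by
    rw [← hh, ← Category.assoc, hσh]
  refine ⟨e, hσp, ?_⟩
  rw [hS, endo_apply]
  exact genMap_germ_app σ h hσh e (P1Split.U k 0 : (CohB1.ProjSpace 1 k).Opens) hmem (P1Split.coordHom k 0 Polynomial.X)

/-- The nontrivial endomorphism over a double cover of the line by a curve of genus at least two
does not depend on the cover. -/
theorem involution_unique (h2 : (2 : k) ≠ 0) (hdim : topologicalKrullDim X = 1)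
    (hg : 2 ≤ Curv2.genus k X) (h₁ h₂ : X ⟶ CohB1.ProjSpace 1 k)
    (hh₁ : h₁ ≫ CohB1.ProjSpace.toSpec 1 k = X ↘ Spec (CommRingCat.of k))
    (hh₂ : h₂ ≫ CohB1.ProjSpace.toSpec 1 k = X ↘ Spec (CommRingCat.of k))
    [IsFinite h₁] [Flat h₁] (hr₁ : ∀ y : ↥(CohB1.ProjSpace 1 k), h₁.finrank y = 2)
    [IsFinite h₂] [Flat h₂] (hr₂ : ∀ y : ↥(CohB1.ProjSpace 1 k), h₂.finrank y = 2)
    (σ τ : X ⟶ X) (hσ : σ ≫ h₁ = h₁) (hσ₁ : σ ≠ 𝟙 X) (hτ : τ ≫ h₂ = h₂) (hτ₁ : τ ≠ 𝟙 X) : σ = τ := by
  obtain ⟨S, hS⟩ := exists_dbl_of_doubleCover h2 hdim hg h₁ hh₁ hr₁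
  obtain ⟨T, hT⟩ := exists_dbl_of_doubleCover h2 hdim hg h₂ hh₂ hr₂
  obtain ⟨eσ, hσp, hσt⟩ := hS σ hσ
  obtain ⟨eτ, hτp, hτt⟩ := hT τ hτ
  have hne : ∀ (η : X ⟶ X) (e : η (genericPoint X) = genericPoint X)
      (hη : η ≫ (X ↘ Spec (CommRingCat.of k)) = X ↘ Spec (CommRingCat.of k)),
      η ≠ 𝟙 X → endo η e hη ≠ AlgHom.id k X.functionField := fun η e hη hne h =>
    hne (eq_of_endo_eq e rfl hη (Category.id_comp _) (h.trans (endo_id _ _).symm))
  refine eq_of_endo_eq eσ eτ hσp hτp (S.endo_unique hσt ?_ (hne σ eσ hσp hσ₁) (hne τ eτ hτp hτ₁))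
  exact T.map_t h2 S _ hτt

end Groth.Agent.HypEq17
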