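import Groth.Agent.Lib.P1Split17.Main
import Groth.Agent.Lib.CurveCoh17.P1Genus
import Groth.Agent.Lib.CurveCoh17.Euler
import Groth.Agent.Lib.AmpleFin18.PushEuler
import Groth.Agent.Lib.GrSyz.Hilbert
import Groth.Agent.S0843
import Groth.Agent.S0844
import Groth.Agent.S0845

/-!
# The direct image of a double cover of the projective line
-/

set_option linter.style.haveILetI false
set_option autoImplicit false

universe u

open CategoryTheory TopologicalSpace Opposite CategoryTheory.Limits AlgebraicGeometry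

namespace Groth.Agent.HypEq17

open Groth.Agent.M1 Groth.Agent.M2 Groth.Agent.CurveCoh17 Groth.Agent.P1Split

variable {k : Type u} [Field k]

theorem finrank_polyGrading_two (j : ℕ) : Module.finrank k ↥(CohB1.polyGrading 1 k j) = j + 1 := by
  have h : CohB1.polyGrading 1 k j = GrSyz.stdGr k (Fin (1 + 1)) (j : ℤ) := by
    refine SetLike.ext fun p => Iff.symm ((GrSyz.mem_stdGr_iff k _ _ p).trans ?_)
    have hw : ∀ d : Fin (1 + 1) →₀ ℕ,
        Finsupp.weight (fun _ : Fin (1 + 1) => (1 : ℤ)) d = ((Finsupp.weight (1 : Fin (1 + 1) → ℕ) d : ℕ) : ℤ) :=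
      fun d => by simp [Finsupp.weight_apply, Finsupp.sum]
    exact ⟨fun h d hd => by have := h hd; rw [hw] at this; exact_mod_cast this,
      fun h d hd => by rw [hw]; exact_mod_cast h hd⟩
  rw [h, (GrSyzLib.finrank_stdGr (k := k) (r := 1) j).2, GrSyzLib.H, if_pos (Int.natCast_nonneg j), Int.toNat_natCast,
    Nat.choose_one_right, add_comm]

theorem finite_polyGrading_two (j : ℕ) : Module.Finite k ↥(CohB1.polyGrading 1 k j) :=
  Module.finite_of_finrank_pos (by rw [finrank_polyGrading_two]; omega)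

section twist

local notation "O(" d ")" => _root_.Twist.twistProjSpace 1 k d

theorem h0_twist (d : ℕ) : Module.finrank k (Coh.HH (CohB1.ProjSpace 1 k) O((d : ℤ)) 0) = d + 1 := by
  obtain ⟨e⟩ := Groth.Agent.S0843.result k 1 d
  rw [e.finrank_eq]
  exact finrank_polyGrading_two d

theorem subsingleton_h0_twist {d : ℤ} (hd : d < 0) : Subsingleton (Coh.HH (CohB1.ProjSpace 1 k) O(d) 0) :=
  Groth.Agent.S0844.result k 1 d 0 (by omega) (by omega)

theorem adm_twist (d : ℤ) :
    @Adm k _ (CohB1.ProjSpace 1 k) ⟨CohB1.ProjSpace.toSpec 1 k⟩ O(d) := by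
  letI : (CohB1.ProjSpace 1 k).Over (Spec (CommRingCat.of k)) := ⟨CohB1.ProjSpace.toSpec 1 k⟩
  refine ⟨fun n => ?_, fun n => Groth.Agent.S0844.result k 1 d (n + 2) (by omega) (by omega)⟩
  by_cases h : (n = 0 ∧ 0 ≤ d) ∨ (n = 1 ∧ d ≤ -2)
  · rcases h with ⟨rfl, hd⟩ | ⟨rfl, hd⟩
    · obtain ⟨j, rfl⟩ := Int.eq_ofNat_of_zero_le hd
      obtain ⟨e⟩ := Groth.Agent.S0843.result k 1 j
      haveI := finite_polyGrading_two (k := k) j
      exact Module.Finite.equiv e.symm
    · obtain ⟨j, rfl⟩ : ∃ j : ℕ, d = -((1 : ℕ) + 1 + (j : ℤ)) := ⟨(-d - 2).toNat, by omega⟩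
      obtain ⟨e⟩ := Groth.Agent.S0845.result k 1 j
      haveI := finite_polyGrading_two (k := k) j
      exact Module.Finite.equiv e.symm
  · haveI := Groth.Agent.S0844.result k 1 d n (by omega) (by omega)
    infer_instance

theorem euler_twist_of_neg {d : ℤ} (hd : d < 0) :
    @Curv2.euler k _ (CohB1.ProjSpace 1 k) ⟨CohB1.ProjSpace.toSpec 1 k⟩ O(d) = d + 1 := by
  letI : (CohB1.ProjSpace 1 k).Over (Spec (CommRingCat.of k)) := ⟨CohB1.ProjSpace.toSpec 1 k⟩
  haveI := subsingleton_h0_twist (k := k) hd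
  rw [(adm_twist (k := k) d).euler_eq, Module.finrank_zero_of_subsingleton]
  rcases eq_or_lt_of_le (show d ≤ -1 by omega) with rfl | h2
  · haveI := Groth.Agent.S0844.result k 1 (-1) 1 (by omega) (by omega)
    rw [Module.finrank_zero_of_subsingleton]
    rfl
  · obtain ⟨j, rfl⟩ : ∃ j : ℕ, d = -((1 : ℕ) + 1 + (j : ℤ)) := ⟨(-d - 2).toNat, by omega⟩
    obtain ⟨e⟩ := Groth.Agent.S0845.result k 1 j
    have he : Module.finrank k (Coh.HH (CohB1.ProjSpace 1 k) O(-((1 : ℕ) + 1 + (j : ℤ))) 1) = j + 1 :=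
      e.finrank_eq.trans (finrank_polyGrading_two j)
    rw [he]
    push_cast
    ring

theorem euler_twist_zero :
    @Curv2.euler k _ (CohB1.ProjSpace 1 k) ⟨CohB1.ProjSpace.toSpec 1 k⟩ O(0) = 1 := by
  letI : (CohB1.ProjSpace 1 k).Over (Spec (CommRingCat.of k)) := ⟨CohB1.ProjSpace.toSpec 1 k⟩
  haveI := Groth.Agent.S0844.result k 1 0 1 (by omega) (by omega)
  rw [(adm_twist (k := k) 0).euler_eq,
    Module.finrank_zero_of_subsingleton (M := Coh.HH (CohB1.ProjSpace 1 k) O(0) 1)]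
  have h := h0_twist (k := k) 0
  rw [Nat.cast_zero] at h
  rw [h]
  rfl

end twist

variable {X : Scheme.{u}} [X.Over (Spec (CommRingCat.of k))]

/-- The splitting of `f_* O_X` for a double cover of `P¹` by a curve of genus `g`. -/
theorem exists_split (f : X ⟶ CohB1.ProjSpace 1 k) [IsAffineHom f]
    (hf : f ≫ CohB1.ProjSpace.toSpec 1 k = X ↘ Spec (CommRingCat.of k))
    (hrk : FlatMod.IsFinLocFreeOfRank 2 (pushO f)) (hX0 : Module.finrank k (Coh.HH X (Coh.structureModule X) 0) = 1)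
    {g : ℕ} (hg : Curv2.genus k X = g) :
    Nonempty (pushO f ≅ splitMod k ![0, -((g : ℤ) + 1)]) := by
  letI : (CohB1.ProjSpace 1 k).Over (Spec (CommRingCat.of k)) := ⟨CohB1.ProjSpace.toSpec 1 k⟩
  obtain ⟨d, hd, ⟨φ⟩⟩ := exists_splitting k (pushO f) hrk
  suffices hd' : d = ![0, -((g : ℤ) + 1)] by exact ⟨hd' ▸ φ⟩
  let G : Fin 2 → (CohB1.ProjSpace 1 k).Modules := fun i => _root_.Twist.twistProjSpace 1 k (d i)
  let S : ShortComplex (CohB1.ProjSpace 1 k).Modules :=
    ShortComplex.mk (Sigma.ι G 0) (proj G 1) (ι_proj_ne G (by decide))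
  have hS : S.ShortExact := (ShortComplex.Splitting.mk (S := S) (proj G 0) (Sigma.ι G 1) (ι_proj_self G 0)
    (ι_proj_self G 1) (by
      have h := sum_proj_ι G
      rw [Fin.sum_univ_two] at h
      exact h)).shortExact
  obtain ⟨e₁⟩ := AmpleFin18.nonempty_HH_push f hf _ (M1.isQCoh_structureModule X) 0
  let e : Coh.HH (CohB1.ProjSpace 1 k) S.X₂ 0 ≃ₗ[k] Coh.HH X (Coh.structureModule X) 0 :=
    (hequiv k φ.symm 0).trans e₁
  have hP : Module.finrank k (Coh.HH (CohB1.ProjSpace 1 k) S.X₂ 0) = 1 := e.finrank_eq.trans hX0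
  haveI hPf : Module.Finite k (Coh.HH (CohB1.ProjSpace 1 k) S.X₂ 0) := Module.finite_of_finrank_eq_succ hP
  have hd0 : d 0 ≤ 0 := by
    by_contra hcon
    obtain ⟨j, hj⟩ := Int.eq_ofNat_of_zero_le (show 0 ≤ d 0 by omega)
    have h1 : Module.finrank k (Coh.HH (CohB1.ProjSpace 1 k) S.X₁ 0) ≤ 1 :=
      (LinearMap.finrank_le_finrank_of_injective (hmap_f_injective k hS)).trans hP.le
    have h2 : Module.finrank k (Coh.HH (CohB1.ProjSpace 1 k) S.X₁ 0) = j + 1 := by
      show Module.finrank k (Coh.HH (CohB1.ProjSpace 1 k) (_root_.Twist.twistProjSpace 1 k (d 0)) 0) = _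
      rw [hj]; exact h0_twist j
    omega
  have hd1' : d 1 ≤ d 0 := hd (by decide)
  have hd00 : d 0 = 0 := by
    by_contra hne
    haveI : Subsingleton (Coh.HH (CohB1.ProjSpace 1 k) S.X₁ 0) := subsingleton_h0_twist (k := k) (d := d 0) (by omega)
    haveI : Subsingleton (Coh.HH (CohB1.ProjSpace 1 k) S.X₃ 0) := subsingleton_h0_twist (k := k) (d := d 1) (by omega)
    haveI : Subsingleton (Coh.HH (CohB1.ProjSpace 1 k) S.X₂ 0) := subsingleton_of_forall_eq 0 fun x => by
      obtain ⟨y, rfl⟩ := (exact_hmap_hmap k hS 0 x).1 (Subsingleton.elim _ _)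
      rw [Subsingleton.elim y 0, map_zero]
    rw [Module.finrank_zero_of_subsingleton] at hP
    omega
  have hd10 : d 1 < 0 := by
    by_contra hcon
    have hd11 : d 1 = 0 := by omega
    haveI := (adm_twist (k := k) (d 0)).fin 0
    haveI := (adm_twist (k := k) (d 1)).fin 0
    let l : (Coh.HH (CohB1.ProjSpace 1 k) (G 0) 0 × Coh.HH (CohB1.ProjSpace 1 k) (G 1) 0) →ₗ[k]
        Coh.HH (CohB1.ProjSpace 1 k) S.X₂ 0 := (hmap k (Sigma.ι G 0) 0).coprod (hmap k (Sigma.ι G 1) 0)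
    have hl : Function.Injective l := (injective_iff_map_eq_zero l).2 fun x hx => by
      have h1 := congrArg (hmap k (proj G 0) 0) hx
      have h2 := congrArg (hmap k (proj G 1) 0) hx
      simp only [l] at h1 h2
      rw [LinearMap.coprod_apply, map_add, map_zero, ← hmap_comp, ← hmap_comp, ι_proj_self,
        ι_proj_ne G (by decide : (1 : Fin 2) ≠ 0), hmap_id, hmap_zero, add_zero] at h1
      rw [LinearMap.coprod_apply, map_add, map_zero, ← hmap_comp, ← hmap_comp, ι_proj_self,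
        ι_proj_ne G (by decide : (0 : Fin 2) ≠ 1), hmap_id, hmap_zero, zero_add] at h2
      exact Prod.ext h1 h2
    haveI : Module.Finite k (Coh.HH (CohB1.ProjSpace 1 k) (G 0) 0) := (adm_twist (k := k) (d 0)).fin 0
    haveI : Module.Finite k (Coh.HH (CohB1.ProjSpace 1 k) (G 1) 0) := (adm_twist (k := k) (d 1)).fin 0
    have h := (LinearMap.finrank_le_finrank_of_injective hl).trans hP.le
    rw [Module.finrank_prod] at h
    have h0 : Module.finrank k (Coh.HH (CohB1.ProjSpace 1 k) (G 0) 0) = 1 := by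
      show Module.finrank k (Coh.HH (CohB1.ProjSpace 1 k) (_root_.Twist.twistProjSpace 1 k (d 0)) 0) = _
      rw [hd00]; exact h0_twist 0
    have h1 : Module.finrank k (Coh.HH (CohB1.ProjSpace 1 k) (G 1) 0) = 1 := by
      show Module.finrank k (Coh.HH (CohB1.ProjSpace 1 k) (_root_.Twist.twistProjSpace 1 k (d 1)) 0) = _
      rw [hd11]; exact h0_twist 0
    omega
  have hA0 : Adm k S.X₁ := adm_twist (k := k) (d 0)
  have hA1 : Adm k S.X₃ := adm_twist (k := k) (d 1)
  have hχ := euler_add hS hA0 hA1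
  have hχ0 : Curv2.euler k (CohB1.ProjSpace 1 k) S.X₁ = 1 := by
    show Curv2.euler k (CohB1.ProjSpace 1 k) (_root_.Twist.twistProjSpace 1 k (d 0)) = _
    rw [hd00]; exact euler_twist_zero
  have hχ1 : Curv2.euler k (CohB1.ProjSpace 1 k) S.X₃ = d 1 + 1 := euler_twist_of_neg hd10
  have hA2 : Adm k S.X₂ := adm₂ hS hA0 hA1
  obtain ⟨e₂⟩ := AmpleFin18.nonempty_HH_push f hf _ (M1.isQCoh_structureModule X) 1
  have hP1 : Module.finrank k (Coh.HH (CohB1.ProjSpace 1 k) S.X₂ 1) = g := by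
    let e' : Coh.HH (CohB1.ProjSpace 1 k) S.X₂ 1 ≃ₗ[k] Coh.HH X (Coh.structureModule X) 1 :=
      (hequiv k φ.symm 1).trans e₂
    exact e'.finrank_eq.trans hg
  rw [hA2.euler_eq, hχ0, hχ1, hP, hP1] at hχ
  funext i
  fin_cases i
  · exact hd00
  · show d 1 = -((g : ℤ) + 1)
    push_cast at hχ
    omega

end Groth.Agent.HypEq17
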