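import Mathlib.Algebra.Polynomial.Bivariate
import Mathlib.Algebra.Polynomial.FieldDivision
import Mathlib.RingTheory.Polynomial.GaussLemma
import Mathlib.RingTheory.Localization.FractionRing
import Mathlib.RingTheory.IntegralClosure.IntegrallyClosed
import Mathlib.Tactic

/-!
# Uniqueness of the quadratic rational subfield of a hyperelliptic function field

Two presentations `y ^ 2 = F (t)` with `F` without square factors and of degree at least five
have the same rational subfield `k(t)`: otherwise the field would be defined by a relation of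
bidegree `(2, 2)`, whose discriminant has degree at most four.
-/

set_option autoImplicit false

universe u v w

open Polynomial
open scoped Polynomial.Bivariate

namespace Groth.Agent.HypEq17

variable (k : Type u) [Field k] (K : Type w) [Field K] [Algebra k K]

/-- A presentation of a field as `k(t)[y]`, `y ^ 2 = F (t)`, with `F` reduced of degree at least five. -/
structure Dbl where
  t : K
  y : K
  F : k[X]
  gen : ∀ z : K, ∃ p q d : k[X], d ≠ 0 ∧ z * aeval t d = aeval t p + aeval t q * y
  indep : ∀ p q : k[X], aeval t p + aeval t q * y = 0 → p = 0 ∧ q = 0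
  sq : y ^ 2 = aeval t F
  red : ∀ n d D : k[X], n ^ 2 * F = d ^ 2 * D → d ∣ n
  le_deg : 5 ≤ F.natDegree

variable {k K}

theorem Dbl.inj (S : Dbl k K) {p : k[X]} (h : aeval S.t p = 0) : p = 0 :=
  (S.indep p 0 (by simp [h])).1

/-- The degree in the first variable of a divisor is at most that of the multiple. -/
theorem natDegree_coeff_le_of_dvd {H M : k[X][Y]} (hH : H ≠ 0) (hdvd : M ∣ H) {n : ℕ}
    (hn : (Bivariate.swap H).natDegree ≤ n) (j : ℕ) : (M.coeff j).natDegree ≤ n := by
  have hc : ∀ (P : k[X][Y]) (i l : ℕ), ((Bivariate.swap P).coeff i).coeff l = (P.coeff l).coeff i := by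
    intro P i l
    induction P using Polynomial.induction_on' with
    | add p q hp hq => simp [hp, hq]
    | monomial a f =>
      induction f using Polynomial.induction_on' with
      | add p q hp hq => simp [hp, hq]
      | monomial b r =>
        rw [Bivariate.swap_monomial_monomial]
        simp only [coeff_monomial]
        split_ifs <;> simp_all [coeff_monomial]
  have hne : Bivariate.swap H ≠ 0 := fun h => hH (Bivariate.swap.injective (h.trans (map_zero _).symm))
  have hle : (Bivariate.swap M).natDegree ≤ n :=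
    (natDegree_le_of_dvd (map_dvd Bivariate.swap hdvd) hne).trans hn
  rw [natDegree_le_iff_coeff_eq_zero]
  intro i hi
  rw [← hc, coeff_eq_zero_of_natDegree_lt (hle.trans_lt hi), coeff_zero]

/-- The rational subfield is unique. -/
theorem Dbl.exists_eq (hc2 : (2 : k) ≠ 0) (S T : Dbl k K) :
    ∃ p d : k[X], d ≠ 0 ∧ T.t * aeval S.t d = aeval S.t p := by
  classical
  obtain ⟨p, q, d, hd, hz⟩ := S.gen T.t
  rcases eq_or_ne q 0 with rfl | hq
  · exact ⟨p, d, hd, by simpa using hz⟩
  exfalso
  let φ : k[X] →+* K := (aeval (R := k) S.t).toRingHom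
  have hφ : Function.Injective φ := (injective_iff_map_eq_zero φ).2 fun r hr => S.inj hr
  -- the equation of `T.t` over `k[S.t]`
  let M1 : k[X][Y] := C (d ^ 2) * Y ^ 2 - C (2 * d * p) * Y + C (p ^ 2 - q ^ 2 * S.F)
  have hM1 : eval₂ φ T.t M1 = 0 := by
    have h : (T.t * φ d - φ p) ^ 2 = φ q ^ 2 * φ S.F := by
      show (T.t * aeval S.t d - aeval S.t p) ^ 2 = aeval S.t q ^ 2 * aeval S.t S.F
      rw [hz, add_sub_cancel_left, mul_pow, S.sq]
    simp only [M1, eval₂_sub, eval₂_add, eval₂_mul, eval₂_C, eval₂_X, eval₂_X_pow]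
    simp only [map_sub, map_mul, map_pow, map_ofNat]
    linear_combination h
  have hM1d : M1.natDegree = 2 := by
    simp only [M1]
    compute_degree!
  have hM10 : M1 ≠ 0 := fun h => by simp [h] at hM1d
  let M0 := M1.primPart
  have hM0p : M0.IsPrimitive := isPrimitive_primPart M1
  have hM0d : M0.natDegree = 2 := (natDegree_primPart M1).trans hM1d
  have hcont : M1.content ≠ 0 := fun h => hM10 (content_eq_zero_iff.1 h)
  have hM0 : eval₂ φ T.t M0 = 0 := by
    rw [eq_C_content_mul_primPart M1, eval₂_mul, eval₂_C, mul_eq_zero] at hM1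
    exact hM1.resolve_left fun h => hcont (hφ (h.trans (map_zero φ).symm))
  -- the equation of `S.t` over `k[T.t]`
  obtain ⟨p', q', d', hd', hz'⟩ := T.gen S.t
  let G : k[X][Y] := C (d' ^ 2) * Y ^ 2 - C (2 * d' * p') * Y + C (p' ^ 2 - q' ^ 2 * T.F)
  have hGd : G.natDegree = 2 := by
    simp only [G]
    compute_degree!
  have hG : aevalAeval T.t S.t G = 0 := by
    have h : (S.t * aeval T.t d' - aeval T.t p') ^ 2 = aeval T.t q' ^ 2 * aeval T.t T.F := by
      rw [hz', add_sub_cancel_left, mul_pow, T.sq]
    simp [G]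
    linear_combination h
  let H := Bivariate.swap G
  have hH0 : H ≠ 0 := fun h => by
    have : G = 0 := Bivariate.swap.injective (h.trans (map_zero _).symm)
    simp [this] at hGd
  have hH : eval₂ φ T.t H = 0 := by
    rw [← hG, ← Bivariate.aevalAeval_swap]
    show eval₂ φ T.t H = aevalAeval S.t T.t H
    induction H using Polynomial.induction_on' with
    | add a b ha hb => simp [ha, hb]
    | monomial n a => simp [φ, eval₂_monomial, ← C_mul_X_pow_eq_monomial]
  -- division over the fraction field
  let L := FractionRing k[X]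
  let ψ : L →+* K := IsFractionRing.lift hφ
  have hψ : ψ.comp (algebraMap k[X] L) = φ := RingHom.ext fun a => IsFractionRing.lift_algebraMap hφ a
  have hev : ∀ P : k[X][Y], eval₂ φ T.t P = 0 → eval₂ ψ T.t (P.map (algebraMap k[X] L)) = 0 := fun P h => by
    rwa [eval₂_map, hψ]
  have hlin : ∀ a b : L, ψ a * T.t + ψ b = 0 → a = 0 := by
    intro a b hab
    by_contra ha
    obtain ⟨u, v, hv, huv⟩ := IsFractionRing.div_surjective (A := k[X]) (-b / a)
    have hT : T.t = ψ (-b / a) := by
      rw [map_div₀, map_neg, eq_div_iff (fun h => ha (ψ.injective (h.trans (map_zero ψ).symm)))]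
      linear_combination hab
    rw [← huv, map_div₀] at hT
    simp only [ψ, IsFractionRing.lift_algebraMap] at hT
    have hv0 : v ≠ 0 := nonZeroDivisors.ne_zero hv
    rw [eq_div_iff (fun h => hv0 (hφ (h.trans (map_zero φ).symm)))] at hT
    have h2 : aeval S.t (p * v - u * d) + aeval S.t (q * v) * S.y = 0 := by
      simp only [map_sub, map_mul]
      show φ p * φ v - φ u * φ d + φ q * φ v * S.y = 0
      have hz2 : T.t * φ d = φ p + φ q * S.y := hz
      linear_combination φ d * hT - φ v * hz2
    exact mul_ne_zero hq hv0 (S.indep _ _ h2).2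
  have hdvd : M0 ∣ H := by
    refine hM0p.dvd_of_fraction_map_dvd_fraction_map (K := L) ?_
    set A := M0.map (algebraMap k[X] L)
    set B := H.map (algebraMap k[X] L)
    have hAd : A.natDegree = 2 := (natDegree_map_eq_of_injective (IsFractionRing.injective k[X] L) _).trans hM0d
    have hA0 : A ≠ 0 := fun h => by simp [h] at hAd
    refine EuclideanDomain.mod_eq_zero.1 ?_
    have hlt : (B % A).degree < 2 := by
      refine (degree_mod_lt B hA0).trans_le ?_
      rw [degree_eq_natDegree hA0, hAd]
      rfl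
    obtain ⟨a, b, hab⟩ : ∃ a b : L, B % A = C a * X + C b := by
      refine ⟨_, _, eq_X_add_C_of_natDegree_le_one ?_⟩
      rcases eq_or_ne (B % A) 0 with h | h
      · simp [h]
      · exact Nat.lt_succ_iff.1 ((natDegree_lt_iff_degree_lt h).2 hlt)
    have h0 : eval₂ ψ T.t (B % A) = 0 := by
      have h := congrArg (eval₂ ψ T.t) (EuclideanDomain.mod_add_div B A)
      rw [eval₂_add, eval₂_mul, hev M0 hM0, hev H hH, zero_mul, add_zero] at h
      exact h
    rw [hab, eval₂_add, eval₂_mul, eval₂_C, eval₂_C, eval₂_X] at h0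
    have ha := hlin a b h0
    rw [ha, map_zero, zero_mul, zero_add] at h0
    rw [hab, ha, ψ.injective (h0.trans (map_zero ψ).symm)]
    simp
  have hswap : (Bivariate.swap H).natDegree ≤ 2 := by
    rw [Bivariate.swap_swap_apply, hGd]
  have hdeg := natDegree_coeff_le_of_dvd hH0 hdvd hswap
  -- the discriminant
  have hco : ∀ j, M1.coeff j = M1.content * M0.coeff j := fun j => by
    conv_lhs => rw [eq_C_content_mul_primPart M1]
    rw [coeff_C_mul]
  have c2 : d ^ 2 = M1.content * M0.coeff 2 := by rw [← hco]; simp only [M1, coeff_add, coeff_sub, coeff_C_mul, coeff_X_pow, coeff_X, coeff_C]; norm_num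
  have c1 : -(2 * d * p) = M1.content * M0.coeff 1 := by rw [← hco]; simp only [M1, coeff_add, coeff_sub, coeff_C_mul, coeff_X_pow, coeff_X, coeff_C]; norm_num
  have c0 : p ^ 2 - q ^ 2 * S.F = M1.content * M0.coeff 0 := by rw [← hco]; simp only [M1, coeff_add, coeff_sub, coeff_C_mul, coeff_X_pow, coeff_X, coeff_C]; norm_num
  let D := M0.coeff 1 ^ 2 - 4 * (M0.coeff 2 * M0.coeff 0)
  have hD : (2 * d * q) ^ 2 * S.F = M1.content ^ 2 * D := by
    linear_combination (-2 * d * p + M1.content * M0.coeff 1) * c1 -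
      4 * (p ^ 2 - q ^ 2 * S.F) * c2 - 4 * M1.content * M0.coeff 2 * c0
  obtain ⟨r, hr⟩ := S.red _ _ _ hD
  have hr0 : r ≠ 0 := by
    rintro rfl
    rw [mul_zero, mul_eq_zero, mul_eq_zero] at hr
    rcases hr with (h | h) | h
    · exact hc2 (by simpa using congrArg (fun s => s.coeff 0) h)
    · exact hd h
    · exact hq h
  have hrD : r ^ 2 * S.F = D := by
    refine mul_left_cancel₀ (pow_ne_zero 2 hcont) ?_
    rw [← hD, hr]
    ring
  have hF : S.F ≠ 0 := fun h => by have := S.le_deg; simp [h] at this
  have h1 : S.F.natDegree ≤ D.natDegree := by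
    rw [← hrD, natDegree_mul (pow_ne_zero 2 hr0) hF]
    omega
  have h2 : D.natDegree ≤ 4 := by
    refine (natDegree_sub_le _ _).trans (max_le ?_ ?_)
    · refine natDegree_pow_le.trans ?_
      have := hdeg 1
      omega
    · refine natDegree_mul_le.trans ?_
      have h4 : (4 : k[X]).natDegree = 0 := natDegree_natCast 4
      have := hdeg 2
      have := hdeg 0
      have := natDegree_mul_le (p := M0.coeff 2) (q := M0.coeff 0)
      omega
  have := S.le_deg
  omega

/-- An endomorphism fixing one coordinate fixes the other. -/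
theorem Dbl.map_t (hc2 : (2 : k) ≠ 0) (S T : Dbl k K) (θ : K →ₐ[k] K) (h : θ S.t = S.t) : θ T.t = T.t := by
  obtain ⟨p, d, hd, hz⟩ := S.exists_eq hc2 T
  have h1 : aeval S.t d ≠ 0 := fun h0 => hd (S.inj h0)
  have h2 := congrArg θ hz
  rw [map_mul, ← aeval_algHom_apply, ← aeval_algHom_apply, h, ← hz] at h2
  exact mul_right_cancel₀ h1 h2

/-- There is only one nontrivial endomorphism fixing the coordinate. -/
theorem Dbl.endo_unique (S : Dbl k K) {θ θ' : K →ₐ[k] K} (h : θ S.t = S.t) (h' : θ' S.t = S.t)
    (hne : θ ≠ AlgHom.id k K) (hne' : θ' ≠ AlgHom.id k K) : θ = θ' := by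
  have key : ∀ {η : K →ₐ[k] K}, η S.t = S.t → ∀ z : K, ∀ {p q d : k[X]},
      z * aeval S.t d = aeval S.t p + aeval S.t q * S.y →
      η z * aeval S.t d = aeval S.t p + aeval S.t q * η S.y := fun {η} hη z {p q d} hz => by
    have := congrArg η hz
    simpa only [map_add, map_mul, ← aeval_algHom_apply, hη] using this
  have hy : ∀ {η : K →ₐ[k] K}, η S.t = S.t → η ≠ AlgHom.id k K → η S.y = -S.y := fun {η} hη hne => by
    have h2 := congrArg η S.sq
    rw [map_pow, ← aeval_algHom_apply, hη, ← S.sq] at h2
    rcases sq_eq_sq_iff_eq_or_eq_neg.1 h2 with he | he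
    · refine (hne (AlgHom.ext fun z => ?_)).elim
      obtain ⟨p, q, d, hd, hz⟩ := S.gen z
      have h3 := key hη z hz
      rw [he, ← hz] at h3
      exact mul_right_cancel₀ (fun h0 => hd (S.inj h0)) h3
    · exact he
  refine AlgHom.ext fun z => ?_
  obtain ⟨p, q, d, hd, hz⟩ := S.gen z
  refine mul_right_cancel₀ (fun h0 => hd (S.inj h0)) ?_
  rw [key h z hz, key h' z hz, hy h hne, hy h' hne']

/-- The presentation given by a free quadratic normal algebra over `k[t]`. -/
theorem exists_dbl {B : Type v} [CommRing B] [IsDomain B] [Algebra B K] [IsFractionRing B K]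
    [IsIntegrallyClosed B] (α : k[X] →+* B) (hα : ∀ c : k, algebraMap B K (α (C c)) = algebraMap k K c)
    {y : B} (hy : Function.Bijective fun c : Fin 2 → k[X] => α (c 0) + α (c 1) * y) {F : k[X]}
    (hsq : y ^ 2 = α F) (hF : 5 ≤ F.natDegree) :
    ∃ S : Dbl k K, S.t = algebraMap B K (α X) := by
  have hev : ∀ r : k[X], aeval (algebraMap B K (α X)) r = algebraMap B K (α r) := fun r => by
    have h : (aeval (algebraMap B K (α X))).toRingHom = (algebraMap B K).comp α :=
      Polynomial.ringHom_ext (fun c => by simp [hα]) (by simp)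
    exact DFunLike.congr_fun h r
  have hind : ∀ p q : k[X], α p + α q * y = 0 → p = 0 ∧ q = 0 := fun p q h => by
    have h1 : (![p, q] : Fin 2 → k[X]) = fun _ => 0 := hy.1 (by simpa using h)
    exact ⟨congrFun h1 0, congrFun h1 1⟩
  refine ⟨⟨algebraMap B K (α X), algebraMap B K y, F, ?_, ?_, ?_, ?_, hF⟩, rfl⟩
  · intro z
    obtain ⟨a, b, hb, rfl⟩ := IsFractionRing.div_surjective (A := B) z
    obtain ⟨ca, rfl⟩ := hy.2 a
    obtain ⟨cb, rfl⟩ := hy.2 b
    have hb0 := nonZeroDivisors.ne_zero hb
    refine ⟨ca 0 * cb 0 - ca 1 * cb 1 * F, ca 1 * cb 0 - ca 0 * cb 1, cb 0 ^ 2 - cb 1 ^ 2 * F, fun h0 => ?_, ?_⟩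
    · have h1 : (α (cb 0) + α (cb 1) * y) * (α (cb 0) + α (-cb 1) * y) = 0 := by
        have := congrArg α h0
        simp only [map_sub, map_mul, map_pow, map_zero, map_neg] at this ⊢
        linear_combination this - α (cb 1) ^ 2 * hsq
      rcases mul_eq_zero.1 h1 with h1 | h1
      · exact hb0 h1
      · obtain ⟨e0, e1⟩ := hind _ _ h1
        exact hb0 (by simp [e0, neg_eq_zero.1 e1])
    · have hbK := IsFractionRing.to_map_ne_zero_of_mem_nonZeroDivisors (K := K) hb
      rw [hev, hev, hev, div_mul_eq_mul_div, div_eq_iff hbK, ← map_mul, ← map_mul, ← map_add, ← map_mul]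
      congr 1
      simp only [map_sub, map_mul, map_pow]
      linear_combination (α (ca 0) * α (cb 1) ^ 2 - α (ca 1) * α (cb 0) * α (cb 1)) * hsq
  · intro p q h
    rw [hev, hev, ← map_mul, ← map_add] at h
    exact hind p q (IsFractionRing.injective B K (h.trans (map_zero _).symm))
  · rw [hev, ← map_pow, hsq]
  · intro n d D h
    rcases eq_or_ne d 0 with rfl | hd
    · have hF0 : F ≠ 0 := fun h0 => by simp [h0] at hF
      have : n = 0 := by simpa [hF0] using h
      simp [this]
    have hd0 : algebraMap B K (α d) ≠ 0 := fun h0 =>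
      hd (hind d 0 (by rw [IsFractionRing.injective B K (h0.trans (map_zero _).symm), map_zero, zero_mul, add_zero])).1
    have he : (α n * y) ^ 2 = α d ^ 2 * α D := by
      rw [mul_pow, hsq, ← map_pow, ← map_pow, ← map_mul, ← map_mul, h]
    have hint : IsIntegral B (algebraMap B K (α n * y) / algebraMap B K (α d)) := by
      refine ⟨X ^ 2 - C (α D), monic_X_pow_sub_C _ two_ne_zero, ?_⟩
      rw [eval₂_sub, eval₂_X_pow, eval₂_C, div_pow, ← map_pow, he, map_mul, map_pow,
        mul_div_cancel_left₀ _ (pow_ne_zero 2 hd0), sub_self]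
    obtain ⟨b, hb⟩ := IsIntegrallyClosed.isIntegral_iff.1 hint
    rw [eq_div_iff hd0, ← map_mul] at hb
    have hb' := IsFractionRing.injective B K hb
    obtain ⟨c, rfl⟩ := hy.2 b
    obtain ⟨-, h1⟩ := hind (c 0 * d) (c 1 * d - n) (by
      simp only [map_mul, map_sub]
      linear_combination hb')
    exact ⟨c 1, by linear_combination -h1⟩

end Groth.Agent.HypEq17
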